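import Groth.Agent.Lib.CharPair22.Alg
import Groth.Prelude.Def_CoactBr
import Groth.Prelude.Def_CartDual

/-!
Functions on the spectrum of a bialgebra; bases in duality give an isomorphism with the Cartier dual.
-/

set_option autoImplicit false
set_option backward.isDefEq.respectTransparency false
set_option backward.isDefEq.respectTransparency.types false
set_option linter.unusedSectionVars false
set_option synthInstance.maxHeartbeats 400000
set_option maxHeartbeats 1000000

universe u

open CategoryTheory CategoryTheory.Limits MonoidalCategory CartesianMonoidalCategory MonObj AlgebraicGeometry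
open CoactBr
open scoped TensorProduct

namespace Groth.Agent.CharPair22

noncomputable section

attribute [local instance] kalg

variable (k : Type u) [Field k] (A : Type u) [CommRing A]

theorem algebraMap_sp [Algebra k A] (c : k) : algebraMap k Γ((sp k A).left, ⊤) c =
    (Scheme.ΓSpecIso (CommRingCat.of A)).inv (algebraMap k A c) :=
  (congrArg (fun ψ => (ConcreteCategory.hom ψ) c)
    (Scheme.ΓSpecIso_inv_naturality (CommRingCat.ofHom (algebraMap k A)))).symm

/-- Functions on the spectrum of an algebra. -/
def spΓ [Algebra k A] : A ≃ₐ[k] Γ((sp k A).left, ⊤) :=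
  AlgEquiv.ofRingEquiv (f := (Scheme.ΓSpecIso (CommRingCat.of A)).symm.commRingCatIsoToRingEquiv)
    fun c => (algebraMap_sp k A c).symm

variable {k A}

theorem spΓ_pt [Algebra k A] {B : Type u} [CommRing B] [Algebra k B] (g : A →ₐ[k] B) (a : A) :
    (pt g).left.appTop (spΓ k A a) = spΓ k B (g a) :=
  (congrArg (fun ψ => (ConcreteCategory.hom ψ) a) (Scheme.ΓSpecIso_inv_naturality (CommRingCat.ofHom g.toRingHom))).symm

theorem evalPt_eta [HopfAlgebra k A] (a : A) :
    evalPt η[sp k A] (spΓ k A a) = Coalgebra.counit (R := k) a := by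
  apply (spΓ k k).injective
  have h1 := spΓ_pt ((Algebra.ofId k k).comp (Bialgebra.counitAlgHom k A)) a
  rw [← one_eq_pt, one_appTop] at h1
  exact (((algebraMap_sp k k _).trans rfl).symm.trans h1)

variable [HopfAlgebra k A]

/-- The comultiplication is the pullback along multiplication. -/
theorem spΓ_comul {σ : Type*} [Fintype σ] (e : σ → A) (x : A) (c : σ → σ → k)
    (h : (fst (sp k A) (sp k A) * snd (sp k A) (sp k A) : sp k A ⊗ sp k A ⟶ sp k A).left.appTop (spΓ k A x) =
      ∑ a, ∑ b, c a b • ((fst (sp k A) (sp k A)).left.appTop (spΓ k A (e a)) *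
        (snd (sp k A) (sp k A)).left.appTop (spΓ k A (e b)))) :
    Coalgebra.comul (R := k) x = ∑ a, ∑ b, c a b • (e a ⊗ₜ[k] e b) := by
  let iL : A →ₐ[k] A ⊗[k] A := Algebra.TensorProduct.includeLeft
  let iR : A →ₐ[k] A ⊗[k] A := Algebra.TensorProduct.includeRight
  let q : sp k (A ⊗[k] A) ⟶ sp k A ⊗ sp k A := lift (pt iL) (pt iR)
  have hid : Algebra.TensorProduct.lift iL iR (fun _ _ => .all _ _) = AlgHom.id k (A ⊗[k] A) := by
    apply Algebra.TensorProduct.ext'
    intro a b
    simp [iL, iR]
  have h1 : q ≫ (fst (sp k A) (sp k A) * snd (sp k A) (sp k A)) = pt (Bialgebra.comulAlgHom k A) := by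
    rw [MonObj.comp_mul, lift_fst, lift_snd, pt_mul_pt, hid, AlgHom.id_comp]
  have h2 := congrArg (fun y => q.left.appTop y) h
  simp only [← appTop_comp, h1, map_sum, appTop_smul, map_mul, lift_fst, lift_snd, q, spΓ_pt] at h2
  apply (spΓ k (A ⊗[k] A)).injective
  refine h2.trans ?_
  simp only [map_sum, map_smul, ← map_mul]
  refine Finset.sum_congr rfl fun a _ => Finset.sum_congr rfl fun b _ => ?_
  simp [iL, iR]

variable [FiniteDimensional k A] [Coalgebra.IsCocomm k A]

/-- Bases in duality give an isomorphism with the Cartier dual. -/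
theorem nonempty_bialgEquiv_of_basis {B : Type u} [CommRing B] [HopfAlgebra k B] {σ : Type*} [Fintype σ]
    (e : Module.Basis σ k A) (b : Module.Basis σ k B)
    (h1 : ∑ l, Coalgebra.counit (R := k) (e l) • b l = 1)
    (hu : ∑ l, Coalgebra.counit (R := k) (b l) • e l = 1)
    (hA : ∀ δ : B →ₗ[k] k, Coalgebra.comul (R := k) (∑ l, δ (b l) • e l) =
      ∑ a, ∑ c, δ (b a * b c) • (e a ⊗ₜ[k] e c))
    (hB : ∀ ψ : A →ₗ[k] k, Coalgebra.comul (R := k) (∑ l, ψ (e l) • b l) =
      ∑ a, ∑ c, ψ (e a * e c) • (b a ⊗ₜ[k] b c)) : Nonempty (B ≃ₐc[k] CartDual.D k A) := by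
  classical
  let F : CartDual.D k A →ₗ[k] B :=
    { toFun := fun ψ => ∑ l, ψ (e l) • b l
      map_add' := fun x y => by
        simp only [CartDual.coe_apply, WithConv.ofConv_add, LinearMap.add_apply, add_smul, Finset.sum_add_distrib]
      map_smul' := fun c x => by
        simp only [CartDual.coe_apply, WithConv.ofConv_smul, LinearMap.smul_apply, smul_eq_mul, mul_smul, Finset.smul_sum,
          RingHom.id_apply] }
  have hF : ∀ ψ, F ψ = ∑ l, ψ.ofConv (e l) • b l := fun ψ => rfl
  have hrep : ∀ (ψ : CartDual.D k A) (δ : B →ₗ[k] k), δ (F ψ) = ψ.ofConv (∑ l, δ (b l) • e l) := fun ψ δ => by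
    rw [hF, map_sum, map_sum]
    exact Finset.sum_congr rfl fun l _ => by rw [map_smul, map_smul, smul_eq_mul, smul_eq_mul, _root_.mul_comm]
  have hsep : ∀ {x y : B}, (∀ δ : B →ₗ[k] k, δ x = δ y) → x = y := fun {x y} h =>
    b.ext_elem fun i => h (b.coord i)
  have hone : F 1 = 1 := by
    refine (Eq.trans ?_ h1)
    rw [hF]
    refine Finset.sum_congr rfl fun l _ => ?_
    rw [LinearMap.convOne_apply]
    rfl
  have hmul : ∀ x y, F (x * y) = F x * F y := fun x y => hsep fun δ => by
    rw [hrep, LinearMap.convMul_apply, hA, map_sum, map_sum]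
    simp only [map_sum, map_smul, TensorProduct.map_tmul, LinearMap.mul'_apply, hF, Finset.sum_mul, Finset.mul_sum,
      smul_mul_smul_comm, smul_eq_mul]
    rw [Finset.sum_comm]
    refine Finset.sum_congr rfl fun a _ => Finset.sum_congr rfl fun c _ => ?_
    ring
  let Fa : CartDual.D k A →ₐ[k] B := AlgHom.ofLinearMap F hone hmul
  have hco : ∀ x, Coalgebra.counit (R := k) (F x) = Coalgebra.counit (R := k) x := fun x => by
    rw [hrep x Coalgebra.counit, hu, CartDual.coalgebra_counit_apply]
  let es : σ → CartDual.D k A := fun a => WithConv.toConv (e.coord a)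
  have hes : ∀ a, F (es a) = b a := fun a => by
    rw [hF]
    simp [es, Finsupp.single_apply, ite_smul]
  have hcx : ∀ x : CartDual.D k A, Coalgebra.comul (R := k) x =
      ∑ a, ∑ c, x.ofConv (e a * e c) • (es a ⊗ₜ[k] es c) := fun x => by
    apply (CartDual.ev₂ k A).injective
    refine (e.tensorProduct e).ext fun i => ?_
    rw [Module.Basis.tensorProduct_apply, CartDual.ev₂_coalgebra_comul_tmul]
    simp [es, CartDual.coe_apply, Finsupp.single_apply]
  have hcm : ∀ x, Coalgebra.comul (R := k) (F x) = TensorProduct.map F F (Coalgebra.comul (R := k) x) := fun x => by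
    rw [hcx, hF, hB]
    simp only [map_sum, map_smul, TensorProduct.map_tmul, hes]
  have hbij : Function.Bijective F := by
    constructor
    · intro x y h
      apply WithConv.ext
      refine e.ext fun l => ?_
      have := congrArg (fun z => b.equivFun z l) h
      simpa [hF, Finsupp.single_apply] using this
    · intro y
      refine ⟨WithConv.toConv (e.constr k (b.equivFun y)), ?_⟩
      rw [hF]
      refine Eq.trans (Finset.sum_congr rfl fun l _ => ?_) (b.sum_equivFun y)
      rw [show (WithConv.toConv (e.constr k (b.equivFun y))).ofConv = e.constr k (b.equivFun y) from rfl, e.constr_basis]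
  refine ⟨(BialgEquiv.ofBijective (BialgHom.ofAlgHom Fa ?_ ?_) hbij).symm⟩
  · exact AlgHom.ext hco
  · exact AlgHom.ext fun x => (hcm x).symm

end

end Groth.Agent.CharPair22
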